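import Groth.Agent.SepAffine.Alg
import Groth.Agent.QC.Basic
import Mathlib

/-!
Points of a scheme which are images of an affine scheme with isomorphic local rings lie in an affine open:
the reduced case.
-/

set_option autoImplicit false
set_option backward.isDefEq.respectTransparency false
set_option linter.style.haveILetI false

universe u

open CategoryTheory AlgebraicGeometry TopologicalSpace Opposite
open Groth.Agent.QC (resO resO_resO)

noncomputable section

namespace Groth.Agent.AffImages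

variable {T X : Scheme.{u}}

/-- A point without proper generalisations. -/
def IsMaxPt (y : X) : Prop := ∀ z : X, z ⤳ y → z = y

theorem isMaxPt_iff (y : X) : IsMaxPt y ↔ closure ({y} : Set X) ∈ irreducibleComponents (X : Type u) := by
  constructor
  · refine fun h => ⟨isIrreducible_singleton.closure, fun C hC hle => ?_⟩
    have hg := hC.isGenericPoint_genericPoint_closure
    have h1 : hC.genericPoint ⤳ y := hg.specializes (subset_closure (hle (subset_closure rfl)))
    rw [← h y specializes_rfl] at h1 ⊢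
    intro c hc
    have h2 := hg.specializes (subset_closure hc)
    rw [h _ h1] at h2
    exact specializes_iff_mem_closure.1 h2
  · intro h z hz
    have h1 : closure ({y} : Set X) ⊆ closure {z} :=
      closure_minimal (Set.singleton_subset_iff.2 (specializes_iff_mem_closure.1 hz)) isClosed_closure
    exact ((specializes_iff_mem_closure.2 (h.2 isIrreducible_singleton.closure h1 (subset_closure rfl))).antisymm
      hz).eq.symm

theorem exists_isMaxPt (y : X) : ∃ η : X, IsMaxPt η ∧ η ⤳ y := by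
  obtain ⟨η, hη⟩ : ∃ η, IsGenericPoint η (irreducibleComponent y) :=
    QuasiSober.sober isIrreducible_irreducibleComponent isClosed_irreducibleComponent
  refine ⟨η, (isMaxPt_iff η).2 ?_, hη.specializes mem_irreducibleComponent⟩
  rw [hη.def]
  exact irreducibleComponent_mem_irreducibleComponents y

theorem finite_isMaxPt (hX : (irreducibleComponents (X : Type u)).Finite) : {y : X | IsMaxPt y}.Finite :=
  Set.Finite.of_finite_image (f := fun y => closure ({y} : Set X))
    (hX.subset fun _ ⟨y, hy, h⟩ => h ▸ (isMaxPt_iff y).1 hy)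
    fun a _ b _ h => (specializes_iff_mem_closure.2 (h.ge (subset_closure rfl)) |>.antisymm
      (specializes_iff_mem_closure.2 (h.le (subset_closure rfl)))).eq

/-- A function on a reduced scheme with no maximal point in its non-vanishing locus is zero. -/
theorem eq_zero_of_forall_isMaxPt [IsReduced X] {U : X.Opens} (d : Γ(X, U))
    (h : ∀ ξ : X, IsMaxPt ξ → ξ ∉ X.basicOpen d) : d = 0 := by
  rw [← basicOpen_eq_bot_iff]
  refine Opens.ext (Set.eq_empty_iff_forall_notMem.2 fun y hy => ?_)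
  obtain ⟨η, hη, hηy⟩ := exists_isMaxPt y
  exact h η hη (hηy.mem_open (X.basicOpen d).2 hy)

theorem eq_zero_of_res_basicOpen [IsReduced X] {U D : X.Opens} (hle : D ≤ U) (d : Γ(X, U))
    (h : X.basicOpen d ≤ D) (h0 : resO X hle d = 0) : d = 0 := by
  rw [← basicOpen_eq_bot_iff, eq_bot_iff]
  intro y hy
  have h1 : X.basicOpen (resO X hle d) = D ⊓ X.basicOpen d := Scheme.basicOpen_res X d (homOfLE hle).op
  rw [h0, Scheme.basicOpen_zero] at h1
  exact h1.ge ⟨h hy, hy⟩

variable (f : T ⟶ X) {t : T}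

theorem bijective_specMap (ht : Function.Bijective (f.stalkMap t).hom) :
    Function.Bijective (Spec.map (f.stalkMap t)) := by
  haveI : IsIso (f.stalkMap t) := (ConcreteCategory.isIso_iff_bijective _).2 ht
  exact (Spec.map (f.stalkMap t)).homeomorph.bijective

theorem exists_generalisation (ht : Function.Bijective (f.stalkMap t).hom) {z : X} (hz : z ⤳ f t) :
    ∃ u : T, u ⤳ t ∧ f u = z := by
  obtain ⟨q, rfl⟩ : z ∈ Set.range (X.fromSpecStalk (f t)) := by rw [Scheme.range_fromSpecStalk]; exact hz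
  obtain ⟨p, rfl⟩ := (bijective_specMap f ht).2 q
  refine ⟨T.fromSpecStalk t p, ?_, ?_⟩
  · have : T.fromSpecStalk t p ∈ Set.range (T.fromSpecStalk t) := ⟨p, rfl⟩
    rwa [Scheme.range_fromSpecStalk] at this
  · exact congrArg (fun φ : Spec (T.presheaf.stalk t) ⟶ X => φ p) (Scheme.SpecMap_stalkMap_fromSpecStalk f).symm

theorem injOn_generalisations (ht : Function.Bijective (f.stalkMap t).hom) {u v : T} (hu : u ⤳ t) (hv : v ⤳ t)
    (h : f u = f v) : u = v := by
  obtain ⟨p, rfl⟩ : u ∈ Set.range (T.fromSpecStalk t) := by rw [Scheme.range_fromSpecStalk]; exact hu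
  obtain ⟨q, rfl⟩ : v ∈ Set.range (T.fromSpecStalk t) := by rw [Scheme.range_fromSpecStalk]; exact hv
  have e : ∀ r, f (T.fromSpecStalk t r) = X.fromSpecStalk (f t) (Spec.map (f.stalkMap t) r) := fun r =>
    congrArg (fun φ : Spec (T.presheaf.stalk t) ⟶ X => φ r) (Scheme.SpecMap_stalkMap_fromSpecStalk f).symm
  rw [e, e] at h
  exact congrArg (T.fromSpecStalk t)
    ((bijective_specMap f ht).1 ((X.fromSpecStalk (f t)).isEmbedding.injective h))

theorem exists_maxPt_lift (ht : Function.Bijective (f.stalkMap t).hom) {ξ : X} (hξ : IsMaxPt ξ) (hξt : ξ ⤳ f t) :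
    ∃ η : T, η ⤳ t ∧ f η = ξ ∧ IsMaxPt η := by
  obtain ⟨u, hu, rfl⟩ := exists_generalisation f ht hξt
  refine ⟨u, hu, rfl, fun z hz => ?_⟩
  exact injOn_generalisations f ht (hz.trans hu) hu (hξ _ (hz.map f.continuous))

/-- A function on an affine neighbourhood with the germ of a given function upstairs. -/
theorem exists_rep (ht : Function.Bijective (f.stalkMap t).hom) (a : Γ(T, ⊤)) :
    ∃ (V : X.Opens) (b : Γ(X, V)), IsAffineOpen V ∧ f t ∈ V ∧ ∃ N : T.Opens, t ∈ N ∧ ∃ hN : N ≤ f ⁻¹ᵁ V,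
      resO T hN ((f.app V).hom b) = resO T (le_top : N ≤ ⊤) a := by
  obtain ⟨c, hc⟩ := ht.2 ((T.presheaf.germ ⊤ t trivial).hom a)
  obtain ⟨U, hxU, b₀, rfl⟩ := TopCat.Presheaf.exists_germ_eq X.presheaf c
  obtain ⟨V, hV, hxV, hVU⟩ := exists_isAffineOpen_mem_and_subset (x := f t) (U := U) hxU
  refine ⟨V, resO X hVU b₀, hV, hxV, ?_⟩
  have h : T.presheaf.germ (f ⁻¹ᵁ V) t hxV ((f.app V).hom (resO X hVU b₀)) = T.presheaf.germ ⊤ t trivial a := by
    rw [← hc]
    refine (Scheme.Hom.germ_stalkMap_apply f V t hxV _).symm.trans (congrArg (f.stalkMap t).hom ?_)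
    exact X.presheaf.germ_res_apply (homOfLE hVU) (f t) hxV b₀
  obtain ⟨N, hN, i₁, i₂, he⟩ := TopCat.Presheaf.germ_eq T.presheaf (U := f ⁻¹ᵁ V) (V := ⊤) t hxV trivial _ _ h
  exact ⟨N, hN, i₁.le, he⟩

variable [IsReduced X] [IsReduced T]

omit [IsReduced X] [IsReduced T] in
theorem mem_basicOpen_iff_of_rep {V : X.Opens} {b : Γ(X, V)} {a : Γ(T, ⊤)} {N : T.Opens} (hN : N ≤ f ⁻¹ᵁ V)
    (h : resO T hN ((f.app V).hom b) = resO T (le_top : N ≤ ⊤) a) {u : T} (hu : u ∈ N) :
    f u ∈ X.basicOpen b ↔ u ∈ T.basicOpen a := by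
  have h1 : T.basicOpen (resO T hN ((f.app V).hom b)) = N ⊓ T.basicOpen ((f.app V).hom b) :=
    Scheme.basicOpen_res T _ (homOfLE hN).op
  have h2 : T.basicOpen (resO T (le_top : N ≤ ⊤) a) = N ⊓ T.basicOpen a :=
    Scheme.basicOpen_res T _ (homOfLE (le_top : N ≤ ⊤)).op
  rw [h, h2] at h1
  rw [← Scheme.preimage_basicOpen] at h1
  exact ⟨fun hb => (h1.ge ⟨hu, hb⟩).2, fun ha => (h1.le ⟨hu, ha⟩).2⟩

omit [IsReduced X] [IsReduced T] in
/-- Vanishing outside an open spreads from the generalisations to a neighbourhood. -/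
theorem exists_nbhd_le {V W : X.Opens} (hV : IsAffineOpen V) (b : Γ(X, V)) {x : X} (hx : x ∈ V)
    (h : ∀ ξ : X, ξ ⤳ x → ξ ∈ X.basicOpen b → ξ ∈ W) :
    ∃ e : Γ(X, V), x ∈ X.basicOpen e ∧ X.basicOpen e ⊓ X.basicOpen b ≤ W := by
  let p := hV.primeIdealOf ⟨x, hx⟩
  obtain ⟨J, hJ⟩ := (PrimeSpectrum.isClosed_iff_zeroLocus_ideal _).1
    ((W.2.preimage hV.fromSpec.continuous).isClosed_compl)
  have hmem : ∀ (q : PrimeSpectrum Γ(X, V)) (c : Γ(X, V)), hV.fromSpec q ∈ X.basicOpen c ↔ c ∉ q.asIdeal :=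
    fun q c => by
      rw [← SetLike.mem_coe, ← hV.fromSpec_image_basicOpen c]
      exact (hV.fromSpec.isOpenEmbedding.injective.mem_set_image).trans Iff.rfl
  have key : ∃ e ∉ p.asIdeal, ∃ n : ℕ, e * b ^ n ∈ J := by
    by_contra hcon
    push Not at hcon
    have hd : Disjoint (J : Set Γ(X, V)) ↑(p.asIdeal.primeCompl ⊔ Submonoid.powers b) := by
      rw [Set.disjoint_left]
      intro y hyJ hyS
      obtain ⟨e, he, z, ⟨n, rfl⟩, rfl⟩ := Submonoid.mem_sup.1 hyS
      exact hcon e he n hyJ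
    obtain ⟨q, hq, hJq, hdq⟩ := Ideal.exists_le_prime_disjoint J _ hd
    have hqp : q ≤ p.asIdeal := fun y hy => by
      by_contra hyp
      exact Set.disjoint_left.1 hdq hy (Submonoid.mem_sup_left hyp)
    have hbq : b ∉ q := fun hb => Set.disjoint_left.1 hdq hb
      (Submonoid.mem_sup_right (Submonoid.mem_powers b))
    let Q : PrimeSpectrum Γ(X, V) := ⟨q, hq⟩
    have hs : hV.fromSpec Q ⤳ x := by
      have hpx : hV.fromSpec p = x := hV.fromSpec_primeIdealOf ⟨x, hx⟩
      have hh : hV.fromSpec Q ⤳ hV.fromSpec p :=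
        ((PrimeSpectrum.le_iff_specializes Q p).1 hqp).map hV.fromSpec.continuous
      rwa [hpx] at hh
    have hnW : Q ∈ (hV.fromSpec ⁻¹' (W : Set X))ᶜ := hJ.ge hJq
    exact hnW (h _ hs ((hmem Q b).2 hbq))
  obtain ⟨e, he, n, hn⟩ := key
  refine ⟨e, ?_, fun ξ ⟨hξe, hξb⟩ => ?_⟩
  · have := (hmem p e).2 he
    rwa [hV.fromSpec_primeIdealOf] at this
  · obtain ⟨Q, rfl⟩ := hV.range_fromSpec.ge (X.basicOpen_le e hξe)
    by_contra hW
    have hQJ : J ≤ Q.asIdeal := (hJ.le hW :)
    rcases Q.2.mem_or_mem (hQJ hn) with h1 | h1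
    · exact (hmem Q e).1 hξe h1
    · exact (hmem Q b).1 hξb (Q.2.mem_of_pow_mem n h1)

end Groth.Agent.AffImages
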