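import Groth.Agent.AffImages.Reduced
import Groth.Agent.NilAffine.Main
import Groth.Agent.RedSepLib.Basic
import Mathlib

/-!
Images of finitely many points with isomorphic local rings lie in an affine open.
-/

set_option autoImplicit false
set_option backward.isDefEq.respectTransparency false
set_option linter.style.haveILetI false

universe u

open CategoryTheory AlgebraicGeometry TopologicalSpace Opposite
open Groth.Agent.QC (resO resO_resO)

noncomputable section

namespace Groth.Agent.AffImages

variable {T X : Scheme.{u}}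

theorem surjective_nilradicalι (X : Scheme.{u}) : Function.Surjective X.nilradical.subschemeι := fun x => by
  have : x ∈ Set.range X.nilradical.subschemeι := by
    rw [Scheme.IdealSheafData.range_subschemeι, Scheme.nilradical, Scheme.IdealSheafData.support_radical]
    simp
  exact this

theorem isMaxPt_map {S : Scheme.{u}} (j : S ⟶ X) [IsClosedImmersion j] (hj : Function.Surjective j) {y : S} :
    IsMaxPt (j y) ↔ IsMaxPt y := by
  refine ⟨fun h z hz => j.isEmbedding.injective (h _ (hz.map j.continuous)), fun h z hz => ?_⟩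
  obtain ⟨w, rfl⟩ := hj z
  exact congrArg j (h w (j.isEmbedding.isInducing.specializes_iff.1 hz))

/-- The kernel of a stalk map of a surjective closed immersion is nil. -/
theorem isNilpotent_of_stalkMap_eq_zero (j : X ⟶ T) [IsClosedImmersion j] (hj : Function.Surjective j) (y : X)
    (c : T.presheaf.stalk (j y)) (hc : (j.stalkMap y).hom c = 0) : IsNilpotent c := by
  obtain ⟨U, hyU, b, rfl⟩ := TopCat.Presheaf.exists_germ_eq T.presheaf c
  have h : X.presheaf.germ (j ⁻¹ᵁ U) y hyU ((j.app U).hom b) = X.presheaf.germ (j ⁻¹ᵁ U) y hyU 0 := by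
    rw [map_zero, ← hc]
    exact (Scheme.Hom.germ_stalkMap_apply j U y hyU b).symm
  obtain ⟨N, hyN, i₁, i₂, he⟩ := TopCat.Presheaf.germ_eq X.presheaf y hyU hyU _ _ h
  rw [map_zero] at he
  have hno : ∀ z ∈ N, j z ∉ T.basicOpen b := fun z hz hb => by
    have h1 : X.basicOpen (resO X i₁.le ((j.app U).hom b)) = N ⊓ X.basicOpen ((j.app U).hom b) :=
      Scheme.basicOpen_res X _ i₁.op
    rw [show resO X i₁.le ((j.app U).hom b) = 0 from he, Scheme.basicOpen_zero, ← Scheme.preimage_basicOpen] at h1
    exact h1.ge ⟨hz, hb⟩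
  -- no generalisation of `j y` sees `b`
  obtain ⟨V, hV, hyV, hVU⟩ := exists_isAffineOpen_mem_and_subset (x := j y) (U := U) hyU
  rw [← T.presheaf.germ_res_apply (homOfLE hVU) (j y) hyV b]
  letI := TopCat.Presheaf.algebra_section_stalk T.presheaf (⟨j y, hyV⟩ : V)
  haveI := hV.isLocalization_stalk ⟨j y, hyV⟩
  rw [← mem_nilradical, nilradical_eq_sInf, Submodule.mem_sInf]
  intro (q : Ideal (T.presheaf.stalk (j y))) (hq : q.IsPrime)
  by_contra hbq
  let Q : PrimeSpectrum (T.presheaf.stalk (j y)) := ⟨q, hq⟩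
  let z := T.fromSpecStalk (j y) Q
  have hz : z ⤳ j y := by
    have : z ∈ Set.range (T.fromSpecStalk (j y)) := ⟨Q, rfl⟩
    rwa [Scheme.range_fromSpecStalk] at this
  have hzb : z ∈ T.basicOpen b := by
    have hQ : Q ∈ T.fromSpecStalk (j y) ⁻¹ᵁ (T.basicOpen (resO T hVU b)) := by
      show T.fromSpecStalk (j y) Q ∈ T.basicOpen (resO T hVU b)
      rw [← hV.fromSpecStalk_eq_fromSpecStalk hyV]
      show hV.fromSpec (PrimeSpectrum.comap _ Q) ∈ T.basicOpen (resO T hVU b)
      rw [← SetLike.mem_coe, ← hV.fromSpec_image_basicOpen]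
      exact ⟨_, hbq, rfl⟩
    have h2 : T.basicOpen (resO T hVU b) = V ⊓ T.basicOpen b := Scheme.basicOpen_res T b (homOfLE hVU).op
    exact (h2.le hQ).2
  obtain ⟨w, hw⟩ := hj z
  exact hno w ((j.isEmbedding.isInducing.specializes_iff.1 (hw ▸ hz)).mem_open N.2 hyN) (hw ▸ hzb)

/-- For a morphism of affine source, images of finitely many points with isomorphic local rings lie in an affine
open. -/
theorem exists_affine_images (f : T ⟶ X) [IsAffine T] (hX : (irreducibleComponents (X : Type u)).Finite)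
    (hinj : ∀ η η' : T, IsMaxPt η → IsMaxPt η' → f η = f η' → η = η') (s : Finset T)
    (hs : ∀ t ∈ s, Function.Bijective (f.stalkMap t).hom) :
    ∃ U : X.Opens, IsAffineOpen U ∧ ∀ t ∈ s, f t ∈ U := by
  classical
  let jX := X.nilradical.subschemeι
  let jT := T.nilradical.subschemeι
  have hjX : Function.Surjective jX := surjective_nilradicalι X
  have hjT : Function.Surjective jT := surjective_nilradicalι T
  haveI := RedSepLib.isReduced_subscheme_nilradical X
  haveI := RedSepLib.isReduced_subscheme_nilradical T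
  haveI : IsAffine T.nilradical.subscheme := isAffine_of_isAffineHom jT
  obtain ⟨g, hg⟩ := RedSepLib.exists_lift_of_isReduced (jT ≫ f) jX (fun x _ => hjX x)
  have hgp : ∀ u, jX (g u) = f (jT u) := fun u => congrArg (fun φ : T.nilradical.subscheme ⟶ X => φ u) hg
  have hfin : {ξ : X.nilradical.subscheme | IsMaxPt ξ}.Finite :=
    Set.Finite.of_finite_image ((finite_isMaxPt hX).subset fun _ ⟨y, hy, h⟩ => h ▸ (isMaxPt_map jX hjX).2 hy)
      jX.isEmbedding.injective.injOn
  have hinj' : ∀ η η' : T.nilradical.subscheme, IsMaxPt η → IsMaxPt η' → g η = g η' → η = η' :=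
    fun η η' h h' e => jT.isEmbedding.injective (hinj _ _ ((isMaxPt_map jT hjT).2 h) ((isMaxPt_map jT hjT).2 h')
      (by rw [← hgp, ← hgp, e]))
  choose w hw using hjT
  obtain ⟨U', hU', hsU'⟩ := exists_affine_of_reduced g hfin hinj' (s.image w) fun u hu => by
    obtain ⟨t, ht, rfl⟩ := Finset.mem_image.1 hu
    have hft : Function.Bijective (f.stalkMap (jT (w t))).hom := by rw [hw]; exact hs t ht
    -- the square of stalk maps
    have hsq : ∀ c, (g.stalkMap (w t)).hom ((jX.stalkMap (g (w t))).hom c) =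
        (jT.stalkMap (w t)).hom ((f.stalkMap (jT (w t))).hom
          ((X.presheaf.stalkSpecializes (specializes_of_eq (hgp (w t)).symm)).hom c)) := fun c => by
      obtain ⟨U, hU, b, rfl⟩ := TopCat.Presheaf.exists_germ_eq X.presheaf c
      have hU' : f (jT (w t)) ∈ U := hgp (w t) ▸ hU
      rw [TopCat.Presheaf.germ_stalkSpecializes_apply, Scheme.Hom.germ_stalkMap_apply,
        Scheme.Hom.germ_stalkMap_apply, Scheme.Hom.germ_stalkMap_apply, Scheme.Hom.germ_stalkMap_apply]
      have e := Scheme.Hom.congr_app hg U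
      rw [Scheme.Hom.comp_app, Scheme.Hom.comp_app] at e
      have e2 := ConcreteCategory.congr_hom e b
      simp only [CommRingCat.comp_apply] at e2
      rw [e2, TopCat.Presheaf.germ_res_apply]
      rfl
    have hσ : Function.Bijective (X.presheaf.stalkSpecializes (specializes_of_eq (hgp (w t)).symm)).hom := by
      have key : ∀ (x' : X) (h : x' ⤳ jX (g (w t))), x' = jX (g (w t)) →
          Function.Bijective (X.presheaf.stalkSpecializes h).hom := fun x' h e => by
        subst e
        rw [TopCat.Presheaf.stalkSpecializes_refl]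
        exact Function.bijective_id
      exact key _ _ (hgp (w t)).symm
    refine ⟨(injective_iff_map_eq_zero _).2 fun c hc => ?_, fun r => ?_⟩
    · obtain ⟨c₀, rfl⟩ := jX.stalkMap_surjective (g (w t)) c
      rw [hsq] at hc
      have hn := isNilpotent_of_stalkMap_eq_zero jT (fun x => ⟨w x, hw x⟩) (w t) _ hc
      rw [IsNilpotent.map_iff hft.1, IsNilpotent.map_iff hσ.1] at hn
      exact (hn.map (jX.stalkMap (g (w t))).hom).eq_zero
    · obtain ⟨r₀, rfl⟩ := jT.stalkMap_surjective (w t) r
      obtain ⟨c₁, rfl⟩ := hft.2 r₀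
      obtain ⟨c₂, rfl⟩ := hσ.2 c₁
      exact ⟨(jX.stalkMap (g (w t))).hom c₂, hsq c₂⟩
  obtain ⟨U, hUo, hUe⟩ := jX.isEmbedding.isInducing.isOpen_iff.1 U'.2
  let U₀ : X.Opens := ⟨U, hUo⟩
  have hpre : jX ⁻¹ᵁ U₀ = U' := Opens.ext hUe
  refine ⟨U₀, ?_, fun t ht => ?_⟩
  · haveI : IsAffine ((jX ⁻¹ᵁ U₀ : X.nilradical.subscheme.Opens) : Scheme.{u}) := hpre ▸ hU'
    haveI : IsClosedImmersion (jX ∣_ U₀) := IsZariskiLocalAtTarget.restrict (P := @IsClosedImmersion) inferInstance _
    haveI : Surjective (jX ∣_ U₀) := IsZariskiLocalAtTarget.restrict (P := @Surjective) ⟨hjX⟩ _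
    exact NilAffine.isAffine_of_surjective (jX ∣_ U₀)
  · have h := hsU' (w t) (Finset.mem_image_of_mem w ht)
    rw [← hpre] at h
    have h2 : jX (g (w t)) ∈ U₀ := h
    rwa [hgp, hw] at h2

end Groth.Agent.AffImages
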