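import Groth.Agent.AffImages.Core
import Groth.Agent.SepAffine.Glue
import Mathlib

/-!
Images of finitely many points with isomorphic local rings lie in an affine open: reduced schemes.
-/

set_option autoImplicit false
set_option backward.isDefEq.respectTransparency false
set_option linter.style.haveILetI false
set_option maxHeartbeats 1000000

universe u

open CategoryTheory AlgebraicGeometry TopologicalSpace Opposite
open Groth.Agent.QC (resO resO_resO resO_self)

noncomputable section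

namespace Groth.Agent.AffImages

variable {T X : Scheme.{u}} (f : T ⟶ X)

theorem resO_app {V' V : X.Opens} (h : V' ≤ V) (b : Γ(X, V)) :
    (f.app V').hom (resO X h b) = resO T (f.preimage_mono h) ((f.app V).hom b) :=
  congrArg (fun φ : Γ(X, V) ⟶ Γ(T, f ⁻¹ᵁ V') => φ.hom b) (f.naturality (homOfLE h).op)

theorem rep_res {V' V : X.Opens} (hle : V' ≤ V) {b : Γ(X, V)} {a : Γ(T, ⊤)} {N : T.Opens} (hN : N ≤ f ⁻¹ᵁ V)
    (h : resO T hN ((f.app V).hom b) = resO T (le_top : N ≤ ⊤) a) :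
    resO T (inf_le_right : N ⊓ f ⁻¹ᵁ V' ≤ f ⁻¹ᵁ V') ((f.app V').hom (resO X hle b)) =
      resO T (le_top : N ⊓ f ⁻¹ᵁ V' ≤ ⊤) a := by
  rw [resO_app, resO_resO, ← resO_resO (inf_le_left : N ⊓ f ⁻¹ᵁ V' ≤ N) (le_top : N ≤ ⊤) a, ← h, resO_resO]

theorem rep_le {V' V : X.Opens} (hle : V' ≤ V) {b : Γ(X, V)} {a : Γ(T, ⊤)} {N N' : T.Opens} (hN : N ≤ f ⁻¹ᵁ V)
    (h : resO T hN ((f.app V).hom b) = resO T (le_top : N ≤ ⊤) a) (h₁ : N' ≤ N) (h₂ : N' ≤ f ⁻¹ᵁ V') :
    resO T h₂ ((f.app V').hom (resO X hle b)) = resO T (le_top : N' ≤ ⊤) a := by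
  rw [resO_app, resO_resO, ← resO_resO h₁ (le_top : N ≤ ⊤) a, ← h, resO_resO]

theorem basicOpen_neg' {V : X.Opens} (b : Γ(X, V)) : X.basicOpen (-b) = X.basicOpen b := by
  rw [show -b = (-1) * b by rw [neg_one_mul], Scheme.basicOpen_mul,
    Scheme.basicOpen_of_isUnit X isUnit_one.neg]
  exact inf_eq_right.2 (X.basicOpen_le b)

variable [IsAffine T] [IsReduced X] [IsReduced T] (hX : {ξ : X | IsMaxPt ξ}.Finite)
  (hinj : ∀ η η' : T, IsMaxPt η → IsMaxPt η' → f η = f η' → η = η')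

include hX hinj

/-- The images of finitely many points of an affine scheme with bijective stalk maps lie in an affine open. -/
theorem exists_affine_of_reduced (s : Finset T) (hs : ∀ t ∈ s, Function.Bijective (f.stalkMap t).hom) :
    ∃ U : X.Opens, IsAffineOpen U ∧ ∀ t ∈ s, f t ∈ U := by
  classical
  let ι := {t // t ∈ s}
  have hbij : ∀ t : ι, Function.Bijective (f.stalkMap t.1).hom := fun t => hs t.1 t.2
  -- affine neighbourhoods and functions upstairs
  have hW' : ∀ i : ι, ∃ W : X.Opens, IsAffineOpen W ∧ f i.1 ∈ W ∧ ∃ a : Γ(T, ⊤), i.1 ∈ T.basicOpen a ∧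
      T.basicOpen a ≤ f ⁻¹ᵁ W := fun i => by
    obtain ⟨W, hW, hxW, -⟩ := exists_isAffineOpen_mem_and_subset (x := f i.1) (U := (⊤ : X.Opens)) trivial
    obtain ⟨a, h1, h2⟩ := (isAffineOpen_top T).exists_basicOpen_le (⟨i.1, hxW⟩ : (f ⁻¹ᵁ W : T.Opens)) trivial
    exact ⟨W, hW, hxW, a, h2, h1⟩
  choose W hW hiW a hia haW using hW'
  choose V₀ b₀ hV₀ htV₀ N₀ htN₀ hN₀ hb₀ using fun (t i : ι) => exists_rep f (hbij t) (a i)
  have hnb : ∀ t i : ι, ∃ e : Γ(X, V₀ t i), f t.1 ∈ X.basicOpen e ∧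
      X.basicOpen e ⊓ X.basicOpen (b₀ t i) ≤ W i := fun t i => by
    refine exists_nbhd_le (hV₀ t i) (b₀ t i) (htV₀ t i) fun ξ hξ hξb => ?_
    obtain ⟨u, hu, rfl⟩ := exists_generalisation f (hbij t) hξ
    exact haW i ((mem_basicOpen_iff_of_rep f (hN₀ t i) (hb₀ t i) (hu.mem_open (N₀ t i).2 (htN₀ t i))).1 hξb)
  choose e hte heW using hnb
  have hM : ∀ t : ι, ∃ V : X.Opens, IsAffineOpen V ∧ f t.1 ∈ V ∧ (∀ i, V ≤ X.basicOpen (e t i)) ∧
      ∀ ξ : X, IsMaxPt ξ → ξ ∈ V → ξ ⤳ f t.1 := fun t => by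
    let O₁ : X.Opens := ⟨(⋂ i, (X.basicOpen (e t i) : Set X)) ∩
      (⋃ ξ ∈ {ξ : X | IsMaxPt ξ ∧ ¬ ξ ⤳ f t.1}, closure ({ξ} : Set X))ᶜ,
      (isOpen_iInter_of_finite fun i => (X.basicOpen (e t i)).2).inter
        ((hX.subset fun _ h => h.1).isClosed_biUnion fun _ _ => isClosed_closure).isOpen_compl⟩
    have hmem : f t.1 ∈ O₁ := ⟨Set.mem_iInter.2 (hte t), fun h => by
      obtain ⟨ξ, hξ, hcl⟩ := Set.mem_iUnion₂.1 h
      exact hξ.2 (specializes_iff_mem_closure.2 hcl)⟩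
    obtain ⟨V, hV, hxV, hVO⟩ := exists_isAffineOpen_mem_and_subset (x := f t.1) (U := O₁) hmem
    refine ⟨V, hV, hxV, fun i y hy => Set.mem_iInter.1 (hVO hy).1 i, fun ξ hξ hξV => ?_⟩
    by_contra h
    exact (hVO hξV).2 (Set.mem_iUnion₂.2 ⟨ξ, ⟨hξ, h⟩, subset_closure rfl⟩)
  choose V hV htV hVe hVmax using hM
  obtain ⟨B, hBdef⟩ : ∃ B : ∀ t i : ι, Γ(X, V t), ∀ t i, B t i = resO X ((hVe t i).trans (X.basicOpen_le _)) (b₀ t i) :=
    ⟨_, fun _ _ => rfl⟩
  let N : ι → ι → T.Opens := fun t i => N₀ t i ⊓ f ⁻¹ᵁ V t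
  have htN : ∀ t i, t.1 ∈ N t i := fun t i => ⟨htN₀ t i, htV t⟩
  have hNV : ∀ t i, N t i ≤ f ⁻¹ᵁ V t := fun t i => inf_le_right
  have hB : ∀ t i, resO T (hNV t i) ((f.app (V t)).hom (B t i)) = resO T (le_top : N t i ≤ ⊤) (a i) :=
    fun t i => by rw [hBdef]; exact rep_res f ((hVe t i).trans (X.basicOpen_le _)) (hN₀ t i) (hb₀ t i)
  have hBW : ∀ t i, X.basicOpen (B t i) ≤ W i := fun t i y hy => by
    have h1 : X.basicOpen (B t i) = V t ⊓ X.basicOpen (b₀ t i) := by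
      rw [hBdef]; exact Scheme.basicOpen_res X _ (homOfLE ((hVe t i).trans (X.basicOpen_le _))).op
    exact heW t i ⟨hVe t i (h1.le hy).1, (h1.le hy).2⟩
  -- gluing
  have hagree : ∀ i t t' : ι, resO X (inf_le_left : V t ⊓ V t' ≤ V t) (B t i) =
      resO X (inf_le_right : V t ⊓ V t' ≤ V t') (B t' i) := by
    intro i t t'
    rw [← sub_eq_zero]
    refine eq_zero_of_forall_isMaxPt _ fun ξ hξ hξd => ?_
    have hξV := X.basicOpen_le _ hξd
    obtain ⟨η, hη, rfl, hηmax⟩ := exists_maxPt_lift f (hbij t) hξ (hVmax t ξ hξ hξV.1)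
    obtain ⟨η', hη', he, hηmax'⟩ := exists_maxPt_lift f (hbij t') hξ (hVmax t' _ hξ hξV.2)
    obtain rfl := hinj η' η hηmax' hηmax he
    let N' : T.Opens := N t i ⊓ N t' i
    have hηN : η' ∈ N' := ⟨hη.mem_open (N t i).2 (htN t i), hη'.mem_open (N t' i).2 (htN t' i)⟩
    have hN' : N' ≤ f ⁻¹ᵁ (V t ⊓ V t') := fun z hz => ⟨hNV t i hz.1, hNV t' i hz.2⟩
    let d := resO X (inf_le_left : V t ⊓ V t' ≤ V t) (B t i) - resO X (inf_le_right : V t ⊓ V t' ≤ V t') (B t' i)
    have h0 : resO T hN' ((f.app (V t ⊓ V t')).hom d) = 0 := by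
      rw [map_sub, map_sub,
        rep_le f (inf_le_left : V t ⊓ V t' ≤ V t) (hNV t i) (hB t i) (inf_le_left : N' ≤ N t i) hN',
        rep_le f (inf_le_right : V t ⊓ V t' ≤ V t') (hNV t' i) (hB t' i) (inf_le_right : N' ≤ N t' i) hN', sub_self]
    have h1 : T.basicOpen (resO T hN' ((f.app (V t ⊓ V t')).hom d)) = N' ⊓ f ⁻¹ᵁ X.basicOpen d := by
      rw [Scheme.preimage_basicOpen]
      exact Scheme.basicOpen_res T _ (homOfLE hN').op
    rw [h0, Scheme.basicOpen_zero] at h1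
    exact h1.ge ⟨hηN, hξd⟩
  choose F hF using fun i => SepAffine.exists_glue V (fun t => B t i) (hagree i)
  have hVF : ∀ i t, V t ⊓ X.basicOpen (F i) = X.basicOpen (B t i) := fun i t => by
    rw [← hF i t]
    exact (Scheme.basicOpen_res X (F i) (homOfLE (le_iSup V t)).op).symm
  have hFW : ∀ i, X.basicOpen (F i) ≤ W i := fun i y hy => by
    obtain ⟨t, ht⟩ := Opens.mem_iSup.1 (X.basicOpen_le _ hy)
    exact hBW t i ((hVF i t).le ⟨ht, hy⟩)
  have hiF : ∀ i : ι, f i.1 ∈ X.basicOpen (F i) := fun i =>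
    ((hVF i i).ge ((mem_basicOpen_iff_of_rep f (hNV i i) (hB i i) (htN i i)).2 (hia i))).2
  -- functions with affine non-vanishing loci
  have hG : ∀ i : ι, ∃ G : Γ(X, iSup V), IsAffineOpen (X.basicOpen G) ∧ f i.1 ∈ X.basicOpen G := fun i => by
    obtain ⟨h, hhF, hih⟩ := (hW i).exists_basicOpen_le (⟨f i.1, hiF i⟩ : X.basicOpen (F i)) (hiW i)
    let D : ι → X.Opens := fun t => X.basicOpen (B t i)
    have hloc : ∀ t, ∃ n : ℕ, ∃ g : Γ(X, V t),
        resO X (X.basicOpen_le (B t i)) g = resO X (X.basicOpen_le (B t i)) (B t i) ^ n * resO X (hBW t i) h :=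
      fun t => by
        haveI := (hV t).isLocalization_basicOpen (B t i)
        obtain ⟨⟨g, ⟨_, n, rfl⟩⟩, hg⟩ := IsLocalization.surj (Submonoid.powers (B t i)) (resO X (hBW t i) h)
        refine ⟨n, g, ?_⟩
        rw [mul_comm, ← map_pow]
        exact hg.symm
    choose n g hg using hloc
    let M := Finset.univ.sup n
    have hM : ∀ t, n t ≤ M := fun t => Finset.le_sup (Finset.mem_univ t)
    let G : ∀ t, Γ(X, V t) := fun t => g t * B t i ^ (M - n t) * B t i
    have hGle : ∀ t, X.basicOpen (G t) ≤ D t := fun t => by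
      show X.basicOpen (g t * B t i ^ (M - n t) * B t i) ≤ _
      rw [Scheme.basicOpen_mul]
      exact inf_le_right
    have hGres : ∀ t, resO X (X.basicOpen_le (B t i)) (G t) =
        resO X (X.basicOpen_le (B t i)) (B t i) ^ (M + 1) * resO X (hBW t i) h := fun t => by
      rw [map_mul, map_mul, map_pow, hg, show M + 1 = n t + (M - n t) + 1 by have := hM t; omega]
      ring
    have hGag : ∀ t t', resO X (inf_le_left : V t ⊓ V t' ≤ V t) (G t) =
        resO X (inf_le_right : V t ⊓ V t' ≤ V t') (G t') := by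
      intro t t'
      rw [← sub_eq_zero, sub_eq_add_neg]
      let Dt : X.Opens := V t ⊓ V t' ⊓ X.basicOpen (F i)
      have h₁ : Dt ≤ D t := fun y hy => (hVF i t).le ⟨hy.1.1, hy.2⟩
      have h₂ : Dt ≤ D t' := fun y hy => (hVF i t').le ⟨hy.1.2, hy.2⟩
      refine eq_zero_of_res_basicOpen (inf_le_left : Dt ≤ V t ⊓ V t') _ (fun y hy => ⟨X.basicOpen_le _ hy, ?_⟩) ?_
      · rcases X.basicOpen_add_le _ _ hy with h' | h'
        · have := (Scheme.basicOpen_res X (G t) (homOfLE (inf_le_left : V t ⊓ V t' ≤ V t)).op).le h'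
          exact ((hVF i t).ge (hGle t this.2)).2
        · rw [← map_neg] at h'
          have := (Scheme.basicOpen_res X (-G t') (homOfLE (inf_le_right : V t ⊓ V t' ≤ V t')).op).le h'
          rw [basicOpen_neg'] at this
          exact ((hVF i t').ge (hGle t' this.2)).2
      · rw [map_add, map_neg, resO_resO, resO_resO, ← resO_resO h₁ (X.basicOpen_le (B t i)),
          ← resO_resO h₂ (X.basicOpen_le (B t' i)), hGres, hGres, map_mul, map_mul, map_pow, map_pow, resO_resO,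
          resO_resO, resO_resO, resO_resO, ← sub_eq_add_neg]
        have e := congrArg (resO X (inf_le_left : Dt ≤ V t ⊓ V t')) (hagree i t t')
        rw [resO_resO, resO_resO] at e
        rw [e, sub_self]
    obtain ⟨GG, hGG⟩ := SepAffine.exists_glue V G hGag
    have hGD : X.basicOpen GG = X.basicOpen h := by
      have key : ∀ t, V t ⊓ X.basicOpen GG = X.basicOpen (B t i) ⊓ X.basicOpen h := fun t => by
        have e1 : V t ⊓ X.basicOpen GG = X.basicOpen (G t) := by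
          rw [← hGG t]
          exact (Scheme.basicOpen_res X GG (homOfLE (le_iSup V t)).op).symm
        have e2 : X.basicOpen (resO X (X.basicOpen_le (B t i)) (G t)) = D t ⊓ X.basicOpen (G t) :=
          Scheme.basicOpen_res X _ (homOfLE (X.basicOpen_le (B t i))).op
        have hu : X.basicOpen (resO X (X.basicOpen_le (B t i)) (B t i) ^ (M + 1)) = D t :=
          Scheme.basicOpen_of_isUnit X
            ((RingedSpace.isUnit_res_basicOpen X.toLocallyRingedSpace.toRingedSpace (B t i)).pow _)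
        have e3 : X.basicOpen (resO X (hBW t i) h) = D t ⊓ X.basicOpen h :=
          Scheme.basicOpen_res X _ (homOfLE (hBW t i)).op
        rw [hGres, Scheme.basicOpen_mul, hu, e3, ← inf_assoc, inf_idem, inf_eq_right.2 (hGle t)] at e2
        exact e1.trans e2.symm
      refine le_antisymm (fun y hy => ?_) fun y hy => ?_
      · obtain ⟨t, ht⟩ := Opens.mem_iSup.1 (X.basicOpen_le _ hy)
        exact ((key t).le ⟨ht, hy⟩).2
      · obtain ⟨t, ht⟩ := Opens.mem_iSup.1 (X.basicOpen_le _ (hhF hy))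
        exact ((key t).ge ⟨(hVF i t).le ⟨ht, hhF hy⟩, hy⟩).2
    exact ⟨GG, hGD ▸ (hW i).basicOpen h, hGD ▸ hih⟩
  choose G hGaff hiG using hG
  have hO : ∀ t : ι, f t.1 ∈ iSup V := fun t => Opens.mem_iSup.2 ⟨t, htV t⟩
  obtain ⟨c, hc, hcT⟩ := SepAffine.exists_mem_avoid (Ideal.span (Set.range G))
    (Finset.univ.image fun t : ι => (IsLocalRing.maximalIdeal (X.presheaf.stalk (f t.1))).comap
      (X.presheaf.germ (iSup V) (f t.1) (hO t)).hom)
    (fun q hq => by obtain ⟨t, -, rfl⟩ := Finset.mem_image.1 hq; infer_instance) fun q hq hle => by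
      obtain ⟨t, -, rfl⟩ := Finset.mem_image.1 hq
      exact (hle (Ideal.subset_span ⟨t, rfl⟩)) ((X.mem_basicOpen _ _ (hO t)).1 (hiG t))
  let φ := resO X (X.basicOpen_le c)
  refine ⟨X.basicOpen c, isAffineOpen_of_isAffineOpen_basicOpen _ (φ '' Set.range G) ?_ ?_, fun t ht => ?_⟩
  · rw [← Ideal.map_span]
    refine Ideal.eq_top_of_isUnit_mem _ (Ideal.mem_map_of_mem φ hc) ?_
    exact RingedSpace.isUnit_res_basicOpen X.toLocallyRingedSpace.toRingedSpace c
  · rintro _ ⟨_, ⟨i, rfl⟩, rfl⟩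
    have h1 : X.basicOpen (φ (G i)) = X.basicOpen (resO X (X.basicOpen_le (G i)) c) := by
      rw [show X.basicOpen (φ (G i)) = X.basicOpen c ⊓ X.basicOpen (G i) from
        Scheme.basicOpen_res X _ (homOfLE (X.basicOpen_le c)).op,
        show X.basicOpen (resO X (X.basicOpen_le (G i)) c) = X.basicOpen (G i) ⊓ X.basicOpen c from
        Scheme.basicOpen_res X c (homOfLE (X.basicOpen_le (G i))).op, inf_comm]
    rw [h1]
    exact (hGaff i).basicOpen _
  · refine (X.mem_basicOpen c (f t) (hO ⟨t, ht⟩)).2 ?_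
    have := hcT _ (Finset.mem_image.2 ⟨⟨t, ht⟩, Finset.mem_univ _, rfl⟩)
    rw [Ideal.mem_comap, IsLocalRing.mem_maximalIdeal, mem_nonunits_iff, not_not] at this
    exact this

end Groth.Agent.AffImages
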